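import Groth.Agent.Deform.AVFactor
import Groth.Agent.AVRosati.SubAV
import Groth.Agent.IsogLib.Field
import Groth.Agent.IsogLib.DualIsog
import Groth.Agent.GrpSchLib.HomFlat
import Groth.Agent.GrpSchLib.AntiAffineHom
import Groth.Agent.FibDim.BaseField
import Groth.Agent.H23.Isogeny
import Groth.Agent.Lib.AVMulN

/-!
The abelian subvariety and the abelian quotient of a pseudo-abelian variety have the same dimension.
-/

noncomputable section

set_option autoImplicit false
set_option linter.style.haveILetI false
set_option linter.unusedSectionVars false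
set_option backward.isDefEq.respectTransparency false
set_option backward.isDefEq.respectTransparency.types false
set_option maxHeartbeats 1000000
set_option synthInstance.maxHeartbeats 400000

universe u

open CategoryTheory CategoryTheory.Limits AlgebraicGeometry MonoidalCategory CartesianMonoidalCategory
open scoped MonObj

namespace Groth.Agent.PseudoAb

open Groth.Agent

variable {K : Type u} [Field K]

/-- a homomorphism of abelian varieties with image everything and finite kernel preserves the dimension -/
theorem dim_eq {E A : Over (Spec (CommRingCat.of K))}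
    [IsProper E.hom] [GeometricallyIntegral E.hom] [IsProper A.hom] [GeometricallyIntegral A.hom]
    (ψ : E ⟶ A) [IsFinite ψ.left] [Surjective ψ.left] :
    topologicalKrullDim ↥E.left = topologicalKrullDim ↥A.left := by
  haveI : IsIntegral E.left := H23.MaxAbelian.isIntegral_of_geometricallyIntegral
  haveI : IsIntegral A.left := H23.MaxAbelian.isIntegral_of_geometricallyIntegral
  have hgen : ψ.left (genericPoint E.left) = genericPoint A.left := by
    obtain ⟨x, hx⟩ := ψ.left.surjective (genericPoint A.left)
    refine ((genericPoint_specializes _).antisymm ?_).eq.symm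
    rw [← hx]
    exact (genericPoint_specializes x).map ψ.left.continuous
  rw [VarDim.topologicalKrullDim_eq_deg_genericPoint E.hom, VarDim.topologicalKrullDim_eq_deg_genericPoint A.hom,
    VarDim.deg_eq_add ψ.left A.hom (Over.w ψ), hgen, H23.Isogeny.fdeg_eq_zero_of_finite ψ.left, add_zero]

variable {P E V H A : Over (Spec (CommRingCat.of K))} [GrpObj P] [GrpObj E] [GrpObj V] [GrpObj H] [GrpObj A]

/-- the core statement over one field -/
theorem dim_core [LocallyOfFiniteType P.hom] [QuasiCompact P.hom]
    [IsProper E.hom] [GeometricallyIntegral E.hom] [IsProper A.hom] [GeometricallyIntegral A.hom]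
    [Smooth V.hom] [ConnectedSpace ↥V.left] [IsAffine V.left] [IsAffine H.left]
    (iE : E ⟶ P) [IsMonHom iE] [IsClosedImmersion iE.left] (q : P ⟶ V) [IsMonHom q] [Surjective q.left]
    (hkE : AlgGrp.IsKernel iE q)
    (i : H ⟶ P) [IsMonHom i] [IsClosedImmersion i.left] (π : P ⟶ A) [IsMonHom π] [Surjective π.left]
    (hk : AlgGrp.IsKernel i π) :
    topologicalKrullDim ↥E.left = topologicalKrullDim ↥A.left := by
  haveI : Smooth E.hom := S7795.result E
  haveI : Smooth A.hom := S7795.result A
  haveI : GeometricallyConnected E.hom := AVTorsLib.geometricallyConnected_of_geometricallyIntegral E.hom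
  haveI : GeometricallyConnected A.hom := AVTorsLib.geometricallyConnected_of_geometricallyIntegral A.hom
  haveI : IsReduced V.left := GrpSchLib.isReduced_of_smooth_field V.hom
  haveI : LocallyOfFiniteType V.hom := inferInstance
  haveI : IsAffineHom V.hom := isAffineHom_of_isAffine _
  haveI : QuasiCompact q.left := by
    haveI : QuasiCompact (q.left ≫ V.hom) := by rw [Over.w q]; infer_instance
    exact QuasiCompact.of_comp q.left V.hom
  haveI : Flat q.left := GrpSchLib.flat_of_surjective_hom q
  let ψ : E ⟶ A := iE ≫ π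
  -- finite kernel
  obtain ⟨N, iN, n, hn, hnc, -, hnk⟩ := GrpSchLib.exists_kernel ψ
  letI := iN
  haveI := hn; haveI := hnc
  haveI : IsFinite N.hom := by
    have hw : (n ≫ iE) ≫ π = toUnit N ≫ η[A] := by rw [Category.assoc]; exact hnk.w
    let l : N ⟶ H := hk.lift (n ≫ iE) (toUnit N) hw
    have hl : l ≫ i = n ≫ iE := hk.lift_fst _ _ _
    haveI : IsClosedImmersion (l.left ≫ i.left) := by
      rw [← Over.comp_left, hl, Over.comp_left]; infer_instance
    haveI : IsClosedImmersion l.left := IsClosedImmersion.of_comp l.left i.left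
    haveI : IsAffineHom H.hom := isAffineHom_of_isAffine _
    haveI : IsAffineHom N.hom := by rw [← Over.w l]; infer_instance
    haveI : IsProper N.hom := by rw [← Over.w n]; infer_instance
    exact IsFinite.iff_isProper_and_isAffineHom.2 ⟨inferInstance, inferInstance⟩
  haveI : IsFinite ψ.left := IsogLib.isFinite_of_finite_kernel ψ hnk
  -- surjectivity
  haveI : IsCommMonObj E := isCommMonObj_of_isProper_of_geometricallyIntegral E
  obtain ⟨B, iB, j, hj, hjc, hBp, hBg, hjr⟩ := IsogLib.exists_image ψ
  letI := iB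
  haveI := hj; haveI := hjc; haveI := hBp; haveI := hBg
  haveI : IsCommMonObj A := isCommMonObj_of_isProper_of_geometricallyIntegral A
  obtain ⟨r, m, hm, hr, hjr'⟩ := AVRosati.SubAV.exists_retraction j
  haveI := hr
  haveI : IsReduced E.left := GrpSchLib.isReduced_of_smooth_field E.hom
  obtain ⟨t, ht⟩ := AVRosati.SubAV.exists_lift_over ψ j (le_of_eq hjr.symm)
  haveI : Mono j := AVRosati.SubAV.mono_of_closed j
  let h : A ⟶ A := (r ≫ j) * (𝟙 A ^ m)⁻¹
  haveI : IsMonHom (𝟙 A ^ m : A ⟶ A) := by
    constructor
    · rw [MonObj.comp_pow, Category.comp_id, MonObj.one_eq_one, one_pow]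
    · rw [MonObj.mul_eq_mul, MonObj.comp_mul, tensorHom_fst, tensorHom_snd, MonObj.comp_pow, Category.comp_id,
        MonObj.comp_pow, MonObj.comp_pow, Category.comp_id, Category.comp_id, mul_pow]
  haveI : IsMonHom h := by
    let f1 : A ⟶ A := r ≫ j
    let f2 : A ⟶ A := 𝟙 A ^ m
    show IsMonHom (f1 * f2⁻¹)
    haveI : IsMonHom f1 := inferInstanceAs (IsMonHom (r ≫ j))
    haveI : IsMonHom f2 := inferInstanceAs (IsMonHom (𝟙 A ^ m : A ⟶ A))
    constructor
    · rw [MonObj.comp_mul, GrpObj.comp_inv, IsMonHom.one_hom, IsMonHom.one_hom, MonObj.one_eq_one, inv_one, _root_.mul_one]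
    · rw [MonObj.mul_eq_mul, MonObj.comp_mul ((f1 * f2⁻¹) ⊗ₘ (f1 * f2⁻¹)), tensorHom_fst, tensorHom_snd,
        MonObj.comp_mul, GrpObj.comp_inv, MonObj.mul_comp, MonObj.mul_comp, MonObj.comp_mul, GrpObj.comp_inv,
        MonObj.comp_mul, GrpObj.comp_inv, mul_inv, mul_mul_mul_comm]
  have h0 : ψ ≫ h = 1 := by
    have e1 : ψ ≫ r ≫ j = ψ ^ m := by
      calc ψ ≫ r ≫ j = (t ≫ j) ≫ r ≫ j := by rw [ht]
        _ = t ≫ (𝟙 B ^ m) ≫ j := by rw [Category.assoc, ← Category.assoc j r j, hjr']
        _ = ψ ^ m := by rw [MonObj.pow_comp, Category.id_comp, MonObj.comp_pow, ht]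
    show ψ ≫ ((r ≫ j) * (𝟙 A ^ m)⁻¹) = 1
    rw [MonObj.comp_mul, GrpObj.comp_inv, MonObj.comp_pow, Category.comp_id, e1, mul_inv_cancel]
  have hπh : π ≫ h = 1 := by
    haveI : QuasiCompact A.hom := inferInstance
    obtain ⟨g, hg, hqg, -⟩ := S3280.result K P E V A q iE hkE (π ≫ h) (by
      rw [← Category.assoc]
      exact h0.trans Hom.one_def)
    haveI := hg
    rw [← hqg, Deform.AVFactor.eq_one_of_affine g, MonObj.comp_one]
  have hh : h = 1 := by
    haveI : IsDominant π.left := inferInstance
    haveI : IsReduced A.left := GrpSchLib.isReduced_of_smooth_field A.hom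
    refine Over.OverMorphism.ext (ext_of_isDominant_of_isSeparated A.hom ((Over.w h).trans (Over.w _).symm) π.left ?_)
    rw [← Over.comp_left, ← Over.comp_left, hπh, MonObj.comp_one]
  have hrj : r ≫ j = 𝟙 A ^ m := mul_inv_eq_one.1 hh
  haveI : Surjective ψ.left := by
    haveI := AVMulN.surjective_pow (A := A) m hm
    refine ⟨fun a => ?_⟩
    obtain ⟨b, hb⟩ := (𝟙 A ^ m : A ⟶ A).left.surjective a
    have ha : a ∈ Set.range j.left := ⟨r.left b, by
      rw [← Scheme.Hom.comp_apply, ← Over.comp_left, hrj]; exact hb⟩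
    rw [hjr] at ha
    exact ha
  exact dim_eq ψ

variable {k L : Type u} [Field k] [Field L] [Algebra k L]

/-- abelian subvariety and abelian quotient after extension of the base field -/
theorem dim_main {P E V : Over (Spec (CommRingCat.of k))} [GrpObj P] [GrpObj E] [GrpObj V]
    [Smooth P.hom] [LocallyOfFiniteType P.hom] [QuasiCompact P.hom]
    [IsProper E.hom] [GeometricallyIntegral E.hom]
    [Smooth V.hom] [ConnectedSpace ↥V.left] [IsAffine V.left]
    (iE : E ⟶ P) [IsMonHom iE] (hiE : IsClosedImmersion iE.left) (q : P ⟶ V) [IsMonHom q]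
    (hq : Surjective q.left) (hkE : AlgGrp.IsKernel iE q)
    {H A : Over (Spec (CommRingCat.of L))} [GrpObj H] [GrpObj A] [IsAffine H.left]
    [IsProper A.hom] [GeometricallyIntegral A.hom]
    (i : H ⟶ Red.bc (Spec.map (CommRingCat.ofHom (algebraMap k L))) P) [IsMonHom i] [IsClosedImmersion i.left]
    (π : Red.bc (Spec.map (CommRingCat.ofHom (algebraMap k L))) P ⟶ A) [IsMonHom π] [Surjective π.left]
    (hk : AlgGrp.IsKernel i π) :
    topologicalKrullDim ↥E.left = topologicalKrullDim ↥A.left := by
  let σ := Spec.map (CommRingCat.ofHom (algebraMap k L))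
  let F := Over.pullback σ
  haveI : IsProper (F.obj E).hom := inferInstanceAs (IsProper (pullback.snd E.hom σ))
  haveI : GeometricallyIntegral (F.obj E).hom := inferInstanceAs (GeometricallyIntegral (pullback.snd E.hom σ))
  haveI : Smooth (F.obj V).hom := inferInstanceAs (Smooth (pullback.snd V.hom σ))
  haveI : IsAffine (F.obj V).left := inferInstanceAs (IsAffine (pullback V.hom σ))
  haveI : ConnectedSpace ↥(F.obj V).left := GrpSchLib.AntiAffine.connectedSpace_bc V (algebraMap k L)
  haveI : LocallyOfFiniteType (F.obj P).hom := inferInstanceAs (LocallyOfFiniteType (pullback.snd P.hom σ))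
  haveI : QuasiCompact (F.obj P).hom := inferInstanceAs (QuasiCompact (pullback.snd P.hom σ))
  haveI : IsClosedImmersion (F.map iE).left :=
    MorphismProperty.of_isPullback (IsogLib.isPullback_map σ iE) hiE
  haveI : Surjective (F.map q).left := MorphismProperty.of_isPullback (IsogLib.isPullback_map σ q) hq
  have hkE' : AlgGrp.IsKernel (F.map iE) (F.map q) := by
    have h := hkE.map F
    refine IsPullback.of_iso h (Iso.refl _) (Iso.refl _) (Functor.Monoidal.εIso F).symm (Iso.refl _)
      (by simp) ?_ (by simp) ?_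
    · exact toUnit_unique _ _
    · simp [Functor.obj.η_def]
  have key := dim_core (F.map iE) (F.map q) hkE' i π hk
  rw [← key]
  haveI : Subsingleton ↥(Spec (CommRingCat.of k)) := inferInstanceAs (Subsingleton (PrimeSpectrum k))
  haveI : Subsingleton ↥(Spec (CommRingCat.of L)) := inferInstanceAs (Subsingleton (PrimeSpectrum L))
  haveI : Nonempty ↥(Spec (CommRingCat.of L)) := inferInstanceAs (Nonempty (PrimeSpectrum L))
  exact (FibDim.topologicalKrullDim_baseChange (IsPullback.of_hasPullback E.hom σ)).symm

end Groth.Agent.PseudoAb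

end
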